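import Cfsg.Agent.H883.Bridge
set_option linter.all false

/-!
Root-element calculus in orthogonal groups, coordinate free, all characteristics.

`Has Q H u w`: the subgroup `H` contains the Siegel transformation `siegel u w`
(`u` singular, `w` orthogonal to `u`); `Full Q H u`: it contains all of them for the given `u`.
-/

set_option autoImplicit false

namespace Cfsg.Agent.H883.Root

open QuadraticMap Cfsg.Agent.LieClassical.OrthCore Cfsg.Agent.LieClassical.OrthTrans
  Cfsg.Agent.LieClassical.OrthFinite Cfsg.Agent.LieClassical.OrthSimple Cfsg.Agent.H883.Bridge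

variable {F V : Type*} [Field F] [AddCommGroup V] [Module F V] {Q : QuadraticForm F V}

/-- `H` contains the Siegel transformation attached to `(u, w)`. -/
def Has (Q : QuadraticForm F V) (H : Subgroup (V ≃ₗ[F] V)) (u w : V) : Prop :=
  ∃ (hu : Q u = 0) (hw : polar Q u w = 0), siegel Q u w hu hw ∈ H

/-- `H` contains all Siegel transformations attached to the singular vector `u`. -/
def Full (Q : QuadraticForm F V) (H : Subgroup (V ≃ₗ[F] V)) (u : V) : Prop :=
  Q u = 0 ∧ ∀ w, polar Q u w = 0 → Has Q H u w

variable {H K : Subgroup (V ≃ₗ[F] V)}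

theorem Has.sing {u w : V} (h : Has Q H u w) : Q u = 0 := h.1

theorem Has.perp {u w : V} (h : Has Q H u w) : polar Q u w = 0 := h.2.1

theorem Has.mem {u w : V} (h : Has Q H u w) (hu : Q u = 0) (hw : polar Q u w = 0) :
    siegel Q u w hu hw ∈ H := h.2.2

theorem Has.mono {u w : V} (h : Has Q H u w) (hHK : H ≤ K) : Has Q K u w :=
  ⟨h.1, h.2.1, hHK h.2.2⟩

theorem Has.congr {u w u' w' : V} (h : Has Q H u w) (e : u = u') (e' : w = w') :
    Has Q H u' w' := by
  subst e e'
  exact h

theorem Has.add {u w w' : V} (h : Has Q H u w) (h' : Has Q H u w') : Has Q H u (w + w') := by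
  have hp : polar Q u (w + w') = 0 := by rw [polar_add_right, h.perp, h'.perp, add_zero]
  exact ⟨h.sing, hp, siegel_add_mem h.sing h.perp h'.perp hp h.2.2 h'.2.2⟩

theorem siegel_zero {u : V} (hu : Q u = 0) (h : polar Q u 0 = 0) : siegel Q u 0 hu h = 1 := by
  ext v
  rw [siegel_apply]
  simp

theorem siegel_zero_left {w : V} (h : Q 0 = 0) (h' : polar Q 0 w = 0) :
    siegel Q 0 w h h' = 1 := by
  ext v
  rw [siegel_apply]
  simp

theorem siegel_self {u : V} (c : F) (hu : Q u = 0) (h : polar Q u (c • u) = 0) :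
    siegel Q u (c • u) hu h = 1 := by
  ext v
  rw [siegel_apply, QuadraticMap.map_smul, hu, polar_smul_left]
  simp only [smul_eq_mul, mul_zero, zero_mul, zero_smul, sub_zero, LinearEquiv.coe_one, id_eq]
  module

theorem has_zero {u : V} (hu : Q u = 0) : Has Q H u 0 :=
  ⟨hu, polar_zero_right Q u, by rw [siegel_zero]; exact H.one_mem⟩

theorem has_zero_left (w : V) : Has Q H 0 w :=
  ⟨QuadraticMap.map_zero Q, polar_zero_left Q w, by rw [siegel_zero_left]; exact H.one_mem⟩

theorem has_self {u : V} (hu : Q u = 0) (c : F) : Has Q H u (c • u) := by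
  have hp : polar Q u (c • u) = 0 := by rw [polar_smul_right, polar_self_of_sing hu, smul_zero]
  exact ⟨hu, hp, by rw [siegel_self]; exact H.one_mem⟩

theorem Has.neg {u w : V} (h : Has Q H u w) : Has Q H u (-w) := by
  have hp : polar Q u (-w) = 0 := by rw [polar_neg_right, h.perp, neg_zero]
  refine ⟨h.sing, hp, ?_⟩
  rw [← siegel_inv h.sing h.perp hp]
  exact H.inv_mem h.2.2

theorem Has.sub {u w w' : V} (h : Has Q H u w) (h' : Has Q H u w') : Has Q H u (w - w') := by
  rw [sub_eq_add_neg]
  exact h.add h'.neg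

/-- Cancellation. -/
theorem Has.of_add_left {u w w' : V} (h : Has Q H u (w + w')) (h' : Has Q H u w) :
    Has Q H u w' := by
  have := h.sub h'
  rwa [add_sub_cancel_left] at this

theorem Has.of_add_right {u w w' : V} (h : Has Q H u (w + w')) (h' : Has Q H u w') :
    Has Q H u w := by
  have := h.sub h'
  rwa [add_sub_cancel_right] at this

theorem Has.add_smul_self {u w : V} (h : Has Q H u w) (c : F) : Has Q H u (w + c • u) :=
  h.add (has_self h.sing c)

theorem Has.smul_left {u w : V} {c : F} (h : Has Q H u (c • w)) (hw : polar Q u w = 0) :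
    Has Q H (c • u) w := by
  have hu' : Q (c • u) = 0 := by rw [QuadraticMap.map_smul, h.sing, smul_zero]
  have hw' : polar Q (c • u) w = 0 := by rw [polar_smul_left, hw, smul_zero]
  refine ⟨hu', hw', ?_⟩
  rw [siegel_smul_left h.sing hu' hw' h.perp]
  exact h.2.2

theorem Has.smul_right {u w : V} {c : F} (h : Has Q H (c • u) w) (hu : Q u = 0)
    (hw : polar Q u w = 0) : Has Q H u (c • w) := by
  have hw' : polar Q u (c • w) = 0 := by rw [polar_smul_right, hw, smul_zero]
  refine ⟨hu, hw', ?_⟩
  rw [← siegel_smul_left hu h.sing h.perp hw']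
  exact h.2.2

/-- Swapping the two singular vectors of a root element. -/
theorem Has.swap {u w : V} (h : Has Q H u w) (hw : Q w = 0) : Has Q H w (-u) := by
  have hp : polar Q w (-u) = 0 := by rw [polar_neg_right, polar_comm, h.perp, neg_zero]
  refine ⟨hw, hp, ?_⟩
  have e : siegel Q w (-u) hw hp = siegel Q u w h.sing h.perp := by
    ext v
    rw [siegel_apply, siegel_apply, hw, QuadraticMap.map_neg, h.sing, polar_neg_left]
    module
  rw [e]
  exact h.2.2

/-- Conjugation by elements of `H`. -/
theorem Has.map {u w : V} (h : Has Q H u w) {g : V ≃ₗ[F] V} (hgO : g ∈ O Q) (hg : g ∈ H) :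
    Has Q H (g u) (g w) := by
  have hu' : Q (g u) = 0 := by rw [hgO]; exact h.sing
  have hw' : polar Q (g u) (g w) = 0 := by rw [polar_map hgO]; exact h.perp
  refine ⟨hu', hw', ?_⟩
  rw [← siegel_conj hgO h.sing h.perp hu' hw']
  exact H.mul_mem (H.mul_mem hg h.2.2) (H.inv_mem hg)

theorem Full.map {u : V} (h : Full Q H u) {g : V ≃ₗ[F] V} (hgO : g ∈ O Q) (hg : g ∈ H) :
    Full Q H (g u) := by
  refine ⟨by rw [hgO]; exact h.1, fun w hw => ?_⟩
  have h1 : g (g⁻¹ w) = w := LinearEquiv.apply_symm_apply g w
  have h2 : polar Q u (g⁻¹ w) = 0 := by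
    rw [← polar_map hgO, h1]
    exact hw
  have := (h.2 _ h2).map hgO hg
  rwa [h1] at this

theorem Full.smul {u : V} (h : Full Q H u) (c : F) : Full Q H (c • u) := by
  by_cases hc : c = 0
  · subst hc
    rw [zero_smul]
    exact ⟨QuadraticMap.map_zero Q, fun w _ => has_zero_left w⟩
  refine ⟨by rw [QuadraticMap.map_smul, h.1, smul_zero], fun w hw => ?_⟩
  have hw' : polar Q u w = 0 := by
    rw [polar_smul_left, smul_eq_mul] at hw
    exact (mul_eq_zero.1 hw).resolve_left hc
  exact Has.smul_left (h.2 _ (by rw [polar_smul_right, hw', smul_zero])) hw'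

theorem Full.mono {u : V} (h : Full Q H u) (hHK : H ≤ K) : Full Q K u :=
  ⟨h.1, fun w hw => (h.2 w hw).mono hHK⟩

/-- **Commutator formula for Siegel transformations**, as a statement about membership in a
subgroup: if `a` is orthogonal to `u` and `w`, then from `siegel u w` and `siegel a b` one gets
`siegel a (b(u,b) w - (b(w,b) + Q(w) b(u,b)) u)`. -/
theorem Has.comm {u w a b : V} (h : Has Q H u w) (h' : Has Q H a b) (hua : polar Q u a = 0)
    (hwa : polar Q w a = 0) :
    Has Q H a (polar Q u b • w - (polar Q w b + Q w * polar Q u b) • u) := by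
  have h1 := h'.map (siegel_mem_O h.sing h.perp) h.2.2
  have e1 : siegel Q u w h.sing h.perp a = a := by
    rw [siegel_apply, hua, hwa]
    simp
  have e2 : siegel Q u w h.sing h.perp b =
      b + (polar Q u b • w - (polar Q w b + Q w * polar Q u b) • u) := by
    rw [siegel_apply]
    module
  rw [e1, e2] at h1
  exact h1.of_add_left h'

/-- The most used case: `w` and `b` are orthogonal and `w` is singular. -/
theorem Has.comm' {u w a b : V} (h : Has Q H u w) (h' : Has Q H a b) (hua : polar Q u a = 0)
    (hwa : polar Q w a = 0) (hw : Q w = 0) (hwb : polar Q w b = 0) :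
    Has Q H a (polar Q u b • w) := by
  have := h.comm h' hua hwa
  rw [hwb, hw, zero_mul, add_zero, zero_smul, sub_zero] at this
  exact this

/-- The partners of `u` are permuted transitively by the Siegel transformations at `u`. -/
theorem Full.opposite {u u' z : V} (h : Full Q H u) (h' : Full Q H u') (huu' : polar Q u u' ≠ 0)
    (hz : Q z = 0) (huz : polar Q u z ≠ 0) : Full Q H z := by
  -- rescale `z`
  set c : F := polar Q u u' * (polar Q u z)⁻¹ with hc
  have hc0 : c ≠ 0 := mul_ne_zero huu' (inv_ne_zero huz)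
  set z' : V := c • z with hz'
  have hQz' : Q z' = 0 := by rw [hz', QuadraticMap.map_smul, hz, smul_zero]
  have hpz' : polar Q u z' = polar Q u u' := by
    rw [hz', polar_smul_right, smul_eq_mul, hc, mul_assoc, inv_mul_cancel₀ huz, mul_one]
  set d : F := polar Q u u' with hd
  set w : V := d⁻¹ • (z' - u') with hw
  have huw : polar Q u w = 0 := by
    rw [hw, polar_smul_right, polar_sub_right, hpz', sub_self, smul_zero]
  have hHw := h.2 w huw
  have hg := siegel_mem_O h.1 huw
  have e : siegel Q u w h.1 huw u' = z' := by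
    have hQw : Q w = d⁻¹ * d⁻¹ * (- polar Q z' u') := by
      rw [hw, QuadraticMap.map_smul, sub_eq_add_neg, Q_add, QuadraticMap.map_neg, hQz', h'.1,
        polar_neg_right, smul_eq_mul]
      ring
    have hwu' : polar Q w u' = d⁻¹ * polar Q z' u' := by
      rw [hw, polar_smul_left, polar_sub_left, polar_self_of_sing h'.1, sub_zero, smul_eq_mul]
    rw [siegel_apply, hwu', hQw, ← hd]
    have h1 : d • w = z' - u' := by rw [hw, smul_smul, mul_inv_cancel₀ huu', one_smul]
    rw [h1]
    have h2 : d⁻¹ * d⁻¹ * (- polar Q z' u') * d = - (d⁻¹ * polar Q z' u') := by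
      field_simp
    rw [h2]
    module
  have h3 : Full Q H z' := by
    rw [← e]
    exact h'.map hg (hHw.mem h.1 huw)
  have h4 := h3.smul c⁻¹
  rwa [hz', smul_smul, inv_mul_cancel₀ hc0, one_smul] at h4

/-- **If `H` contains all Siegel transformations at two non-orthogonal singular vectors, then
`E Q ≤ H`.** -/
theorem E_le_of_full_pair (hG : Good Q) {u u' : V} (h : Full Q H u) (h' : Full Q H u')
    (huu' : polar Q u u' ≠ 0) : E Q ≤ H := by
  have hu0 : u ≠ 0 := by
    rintro rfl
    exact huu' (polar_zero_left Q _)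
  have hall : ∀ y : V, Q y = 0 → Full Q H y := by
    intro y hy
    by_cases hy0 : y = 0
    · subst hy0
      exact ⟨hy, fun w _ => has_zero_left w⟩
    obtain ⟨z, hz, h1, h2⟩ := good_common_opposite hG h.1 hy hu0 hy0
    have hzF : Full Q H z := h.opposite h' huu' hz h1
    -- `z` full, `u` full, `z` and `u` not orthogonal, `z` and `y` not orthogonal
    have h1' : polar Q z u ≠ 0 := by rwa [polar_comm]
    have h2' : polar Q z y ≠ 0 := by rwa [polar_comm]
    exact hzF.opposite h h1' hy h2'
  rw [E, Subgroup.closure_le]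
  rintro _ ⟨y, w, hy, hw, rfl⟩
  exact ((hall y hy).2 w hw).mem hy hw

/-- Siegel transformations at `u` are products of those with singular second vector: it suffices to
have `Has u w` for all **singular** `w ⊥ u`. -/
theorem full_of_sing (hG : Good Q) {u : V} (hu : Q u = 0)
    (h : ∀ w, Q w = 0 → polar Q u w = 0 → Has Q H u w) : Full Q H u := by
  refine ⟨hu, fun w hw => ?_⟩
  by_cases hu0 : u = 0
  · subst hu0
    exact has_zero_left w
  obtain ⟨u', hyp⟩ := Cfsg.Agent.LieClassical.OrthTrans.exists_hyp hG.nondeg hu hu0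
  obtain ⟨z, z', hz, huz, huz', hu'z, hu'z'⟩ := hG.exists_hyp2 hyp
  have e : w = Cfsg.Agent.LieClassical.OrthTrans.proj Q u u' w + (polar Q u' w) • u := by
    rw [Cfsg.Agent.LieClassical.OrthTrans.proj, hw]; module
  rw [e]
  refine Has.add_smul_self ?_ _
  exact sing_induction_perp hz huz huz' hu'z hu'z' (P := fun v => Has Q H u v)
    (fun a c _ _ _ _ ha hc => ha.add hc) (fun a ha h1 _ => h a ha h1) _
    (polar_proj_left hyp w) (polar_proj_right hyp w)

/-- **`E Q` is generated by the root elements `siegel u w` with `u`, `w` singular and orthogonal.** -/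
theorem E_le_of_sing (hG : Good Q)
    (h : ∀ u w, Q u = 0 → Q w = 0 → polar Q u w = 0 → Has Q H u w) : E Q ≤ H := by
  rw [E, Subgroup.closure_le]
  rintro _ ⟨u, w, hu, hw, rfl⟩
  exact ((full_of_sing hG hu fun w' hw' hp => h u w' hu hw' hp).2 w hw).mem hu hw

/-- `E Q` itself contains all Siegel transformations. -/
theorem has_E {u w : V} (hu : Q u = 0) (hw : polar Q u w = 0) : Has Q (E Q) u w :=
  ⟨hu, hw, siegel_mem_E hu hw⟩

/-! ### Siegel transformations and stabilisers -/

/-- `siegel u w` stabilises every totally isotropic subspace containing `u`; more generally every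
`W` containing `u` and orthogonal to `u`. -/
theorem has_stab_of_perp [FiniteDimensional F V] {W : Submodule F V} {u w : V} (hu : Q u = 0)
    (hw : polar Q u w = 0) (huW : u ∈ W) (hWu : ∀ v ∈ W, polar Q u v = 0) :
    Has Q (stab W) u w := by
  refine ⟨hu, hw, mem_stab_of_le fun v hv => ?_⟩
  rw [siegel_apply, hWu v hv, zero_smul, add_zero, mul_zero, zero_smul, sub_zero]
  exact W.sub_mem hv (W.smul_mem _ huW)

/-- `siegel u w` with `u, w ∈ W` stabilises `W`. -/
theorem has_stab_of_mem [FiniteDimensional F V] {W : Submodule F V} {u w : V} (hu : Q u = 0)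
    (hw : polar Q u w = 0) (huW : u ∈ W) (hwW : w ∈ W) : Has Q (stab W) u w := by
  refine ⟨hu, hw, mem_stab_of_le fun v hv => ?_⟩
  rw [siegel_apply]
  exact W.sub_mem (W.sub_mem (W.add_mem hv (W.smul_mem _ hwW)) (W.smul_mem _ huW))
    (W.smul_mem _ huW)

/-- `siegel u w` with `u, w ⊥ W` fixes `W` pointwise. -/
theorem siegel_fix {u w v : V} (hu : Q u = 0) (hw : polar Q u w = 0)
    (huv : polar Q u v = 0) (hwv : polar Q w v = 0) : siegel Q u w hu hw v = v := by
  rw [siegel_apply, huv, hwv]
  simp

theorem has_stab_of_orth [FiniteDimensional F V] {W : Submodule F V} {u w : V} (hu : Q u = 0)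
    (hw : polar Q u w = 0) (huW : ∀ v ∈ W, polar Q u v = 0) (hwW : ∀ v ∈ W, polar Q w v = 0) :
    Has Q (stab W) u w := by
  refine ⟨hu, hw, mem_stab_of_le fun v hv => ?_⟩
  rw [siegel_apply, huW v hv, hwW v hv]
  simpa using hv

end Cfsg.Agent.H883.Root
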