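import Cfsg.Prelude.Def_GeometricClasses
import Cfsg.Agent.LieClassical.OrthFinite
import Cfsg.Agent.LieClassical.OrthForms
set_option linter.all false

/-!
Bridge between the matrix vocabulary of the "maximal subgroups of orthogonal groups" statements
(`Cfsg.Geo.omegaGL Q ≤ GL ι F`, `Cfsg.Geo.subspaceStabilizer`, ...) and the coordinate-free development
`Cfsg.Agent.LieClassical.OrthCore / OrthTrans / OrthSimple / OrthFinite` (`O Q`, `E Q` = the group
generated by the Siegel transformations, `Good Q`), for a quadratic form `Q : QuadraticForm F V` in all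
characteristics and dimension at least 5.
-/

set_option autoImplicit false

namespace Cfsg.Agent.H883.Bridge

open QuadraticMap Cfsg.Agent.LieClassical.OrthCore Cfsg.Agent.LieClassical.OrthTrans
  Cfsg.Agent.LieClassical.OrthFinite

section Maximal

variable {G G' : Type*} [Group G] [Group G']

/-- **Maximality transfers along an isomorphism of the ambient groups.** -/
theorem isMaximalIn_map_iff (e : G ≃* G') (K H : Subgroup G) :
    Cfsg.Geo.IsMaximalIn (K.map e.toMonoidHom) (H.map e.toMonoidHom) ↔ Cfsg.Geo.IsMaximalIn K H := by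
  have hinj : Function.Injective e.toMonoidHom := e.injective
  have hsurj : ∀ M : Subgroup G', ∃ M₀ : Subgroup G, M₀.map e.toMonoidHom = M := by
    intro M
    exact ⟨M.comap e.toMonoidHom, Subgroup.map_comap_eq_self_of_surjective e.surjective M⟩
  constructor
  · rintro ⟨h1, h2⟩
    refine ⟨(Subgroup.map_lt_map_iff_of_injective hinj).1 h1, fun M hM1 hM2 => ?_⟩
    rcases h2 (M.map e.toMonoidHom) (Subgroup.map_mono hM1) (Subgroup.map_mono hM2) with h | h
    · exact Or.inl (Subgroup.map_injective hinj h)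
    · exact Or.inr (Subgroup.map_injective hinj h)
  · rintro ⟨h1, h2⟩
    refine ⟨(Subgroup.map_lt_map_iff_of_injective hinj).2 h1, fun M hM1 hM2 => ?_⟩
    obtain ⟨M₀, rfl⟩ := hsurj M
    rw [Subgroup.map_le_map_iff_of_injective hinj] at hM1 hM2
    rcases h2 M₀ hM1 hM2 with h | h
    · exact Or.inl (by rw [h])
    · exact Or.inr (by rw [h])

/-- Non-maximality (a subgroup strictly in between) transfers along an isomorphism. -/
theorem exists_between_map_iff (e : G ≃* G') (K H : Subgroup G) :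
    (∃ L : Subgroup G', H.map e.toMonoidHom < L ∧ L < K.map e.toMonoidHom) ↔
      ∃ L : Subgroup G, H < L ∧ L < K := by
  have hinj : Function.Injective e.toMonoidHom := e.injective
  constructor
  · rintro ⟨L, h1, h2⟩
    obtain ⟨L₀, rfl⟩ : ∃ M₀ : Subgroup G, M₀.map e.toMonoidHom = L :=
      ⟨L.comap e.toMonoidHom, Subgroup.map_comap_eq_self_of_surjective e.surjective L⟩
    exact ⟨L₀, (Subgroup.map_lt_map_iff_of_injective hinj).1 h1,
      (Subgroup.map_lt_map_iff_of_injective hinj).1 h2⟩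
  · rintro ⟨L, h1, h2⟩
    exact ⟨L.map e.toMonoidHom, (Subgroup.map_lt_map_iff_of_injective hinj).2 h1,
      (Subgroup.map_lt_map_iff_of_injective hinj).2 h2⟩

/-- To prove maximality: `H < K` and every element `g ∈ K` outside `H` generates `K` with `H`. -/
theorem isMaximalIn_of_closure {K H : Subgroup G} (hlt : H < K)
    (h : ∀ g ∈ K, g ∉ H → K ≤ H ⊔ Subgroup.zpowers g) : Cfsg.Geo.IsMaximalIn K H := by
  refine ⟨hlt, fun M hHM hMK => ?_⟩
  by_cases hM : M ≤ H
  · exact Or.inl (le_antisymm hM hHM)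
  · right
    obtain ⟨g, hg, hgH⟩ := SetLike.not_le_iff_exists.1 hM
    refine le_antisymm hMK ((h g (hMK hg) hgH).trans (sup_le hHM ?_))
    rwa [Subgroup.zpowers_le]

end Maximal

section Forms

variable {ι : Type} [Fintype ι] [DecidableEq ι] {F : Type*} [Field F]

/-- **A function satisfying `Cfsg.Geo.IsNondegenerateQuadraticForm` is the underlying function of a
nondegenerate `QuadraticForm`.** -/
theorem exists_quadraticForm {Q : (ι → F) → F} (hQ : Cfsg.Geo.IsNondegenerateQuadraticForm Q) :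
    ∃ Q' : QuadraticForm F (ι → F), ⇑Q' = Q ∧ Nondeg Q' := by
  have hb := hQ.polar_bilinear
  let B : LinearMap.BilinMap F (ι → F) F :=
    LinearMap.mk₂ F (QuadraticMap.polar Q) (fun x y v => hb.add_left x y v)
      (fun c x v => by rw [hb.smul_left, smul_eq_mul]) (fun v x y => hb.add_right v x y)
      (fun c v x => by rw [hb.smul_right, smul_eq_mul])
  refine ⟨⟨Q, fun c v => ?_, ⟨B, fun x y => ?_⟩⟩, rfl, ?_⟩
  · rw [hQ.smul, smul_eq_mul, pow_two]
  · show Q (x + y) = Q x + Q y + (Q (x + y) - Q x - Q y)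
    ring
  · intro x hx
    by_contra h0
    obtain ⟨⟨y, -⟩, ⟨z, hz⟩⟩ := hQ.nondegenerate x h0
    exact hz (hx z)

/-- Conversely a nondegenerate `QuadraticForm` satisfies the predicate of the statements. -/
theorem isNondegenerateQuadraticForm {Q : QuadraticForm F (ι → F)} (hQ : Nondeg Q) :
    Cfsg.Geo.IsNondegenerateQuadraticForm (Q : (ι → F) → F) where
  smul c v := by rw [QuadraticMap.map_smul, smul_eq_mul, pow_two]
  polar_bilinear :=
    { add_left := fun x y v => QuadraticMap.polar_add_left Q x y v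
      smul_left := fun c x v => by rw [QuadraticMap.polar_smul_left, smul_eq_mul]
      add_right := fun v x y => QuadraticMap.polar_add_right Q v x y
      smul_right := fun c v x => by rw [QuadraticMap.polar_smul_right, smul_eq_mul] }
  nondegenerate v hv := by
    obtain ⟨y, hy⟩ := hQ.exists_polar_ne hv
    exact ⟨⟨y, by rwa [QuadraticMap.polar_comm]⟩, ⟨y, hy⟩⟩

/-- **`omegaGL Q` corresponds to the commutator subgroup of the coordinate-free isometry group.** -/
theorem map_omegaGL (Q : QuadraticForm F (ι → F)) :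
    (Cfsg.Geo.omegaGL (Q : (ι → F) → F)).map (glEquiv ι F).toMonoidHom = ⁅O Q, O Q⁆ := by
  rw [Cfsg.Geo.omegaGL, Subgroup.map_map]
  exact map_Omega Q

/-- **`omegaGL Q` corresponds to `E Q`, the group generated by the Siegel transformations**, when `Q`
is `Good` (automatic over a finite field in dimension at least 5). -/
theorem map_omegaGL_eq_E {Q : QuadraticForm F (ι → F)} (hG : Good Q) :
    (Cfsg.Geo.omegaGL (Q : (ι → F) → F)).map (glEquiv ι F).toMonoidHom = E Q := by
  rw [map_omegaGL, hG.commutator_eq_E]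

theorem mem_omegaGL_iff {Q : QuadraticForm F (ι → F)} (hG : Good Q)
    (g : Matrix.GeneralLinearGroup ι F) :
    g ∈ Cfsg.Geo.omegaGL (Q : (ι → F) → F) ↔ glEquiv ι F g ∈ E Q := by
  rw [← map_omegaGL_eq_E hG]
  exact (Subgroup.mem_map_iff_mem (glEquiv ι F).injective).symm

omit [DecidableEq ι] in
theorem good_of_card [Finite F] {Q : QuadraticForm F (ι → F)} (hQ : Nondeg Q)
    (hd : 5 ≤ Fintype.card ι) : Good Q :=
  good_of_finite hQ (by rwa [Module.finrank_fintype_fun_eq_card])

end Forms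

section Stabilizers

variable {F V : Type*} [Field F] [AddCommGroup V] [Module F V]

/-- Coordinate-free stabiliser of a subspace. -/
def stab (W : Submodule F V) : Subgroup (V ≃ₗ[F] V) where
  carrier := {g | ∀ v, v ∈ W ↔ g v ∈ W}
  mul_mem' {a b} ha hb := fun v => (hb v).trans (ha (b v))
  one_mem' := fun v => Iff.rfl
  inv_mem' {a} ha := fun v => by
    have h := ha (a⁻¹ v)
    have h2 : a (a⁻¹ v) = v := LinearEquiv.apply_symm_apply a v
    rw [h2] at h
    exact h.symm

theorem mem_stab {W : Submodule F V} {g : V ≃ₗ[F] V} : g ∈ stab W ↔ ∀ v, v ∈ W ↔ g v ∈ W :=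
  Iff.rfl

theorem mem_stab_iff_map {W : Submodule F V} {g : V ≃ₗ[F] V} :
    g ∈ stab W ↔ W.map (g : V →ₗ[F] V) = W := by
  constructor
  · intro h
    ext v
    rw [Submodule.mem_map]
    constructor
    · rintro ⟨w, hw, rfl⟩
      exact (h w).1 hw
    · intro hv
      have h1 : g (g.symm v) = v := g.apply_symm_apply v
      exact ⟨g.symm v, (h _).2 (by rwa [h1]), h1⟩
  · intro h v
    constructor
    · intro hv
      rw [← h]
      exact Submodule.mem_map_of_mem hv
    · intro hv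
      rw [← h, Submodule.mem_map] at hv
      obtain ⟨w, hw, hwv⟩ := hv
      rwa [← g.injective hwv]

/-- In finite dimension it is enough to map `W` into itself. -/
theorem mem_stab_of_le [FiniteDimensional F V] {W : Submodule F V} {g : V ≃ₗ[F] V}
    (h : ∀ w ∈ W, g w ∈ W) : g ∈ stab W := by
  rw [mem_stab_iff_map]
  have hle : W.map (g : V →ₗ[F] V) ≤ W := by
    rintro _ ⟨w, hw, rfl⟩
    exact h w hw
  refine Submodule.eq_of_le_of_finrank_eq hle ?_
  exact LinearEquiv.finrank_map_eq g W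

/-- Coordinate-free stabiliser of a family of subspaces (permuting the members). -/
def stabFamily {t : ℕ} (D : Fin t → Submodule F V) : Subgroup (V ≃ₗ[F] V) where
  carrier := {g | ∃ σ : Equiv.Perm (Fin t), ∀ i, (D i).map (g : V →ₗ[F] V) = D (σ i)}
  mul_mem' {a b} ha hb := by
    obtain ⟨σ, hσ⟩ := ha
    obtain ⟨τ, hτ⟩ := hb
    refine ⟨τ.trans σ, fun i => ?_⟩
    have : ((a * b : V ≃ₗ[F] V) : V →ₗ[F] V) = (a : V →ₗ[F] V) ∘ₗ (b : V →ₗ[F] V) := rfl
    rw [this, Submodule.map_comp, hτ, hσ, Equiv.trans_apply]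
  one_mem' := ⟨1, fun i => by
    have : ((1 : V ≃ₗ[F] V) : V →ₗ[F] V) = LinearMap.id := rfl
    rw [this, Submodule.map_id]
    rfl⟩
  inv_mem' {a} ha := by
    obtain ⟨σ, hσ⟩ := ha
    refine ⟨σ.symm, fun i => ?_⟩
    have h := hσ (σ.symm i)
    rw [Equiv.apply_symm_apply] at h
    rw [← h, ← Submodule.map_comp]
    have : ((a⁻¹ : V ≃ₗ[F] V) : V →ₗ[F] V) ∘ₗ (a : V →ₗ[F] V) = LinearMap.id := by
      ext v
      exact LinearEquiv.symm_apply_apply a v
    rw [this, Submodule.map_id]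

theorem mem_stabFamily {t : ℕ} {D : Fin t → Submodule F V} {g : V ≃ₗ[F] V} :
    g ∈ stabFamily D ↔ ∃ σ : Equiv.Perm (Fin t), ∀ i, (D i).map (g : V →ₗ[F] V) = D (σ i) :=
  Iff.rfl

end Stabilizers

section MatrixStabilizers

variable {ι : Type} [Fintype ι] [DecidableEq ι] {F : Type*} [Field F]

theorem mem_subspaceStabilizer_iff {W : Submodule F (ι → F)} {g : Matrix.GeneralLinearGroup ι F} :
    g ∈ Cfsg.Geo.subspaceStabilizer W ↔ glEquiv ι F g ∈ stab W := Iff.rfl

theorem mem_decompositionStabilizer_iff {t : ℕ} {D : Fin t → Submodule F (ι → F)}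
    {g : Matrix.GeneralLinearGroup ι F} :
    g ∈ Cfsg.Geo.decompositionStabilizer D ↔ glEquiv ι F g ∈ stabFamily D := Iff.rfl

/-- Translate an intersection with `omegaGL`. -/
theorem map_inf_omegaGL {Q : QuadraticForm F (ι → F)} (hG : Good Q)
    (S : Subgroup (Matrix.GeneralLinearGroup ι F)) (T : Subgroup ((ι → F) ≃ₗ[F] (ι → F)))
    (h : ∀ g, g ∈ S ↔ glEquiv ι F g ∈ T) :
    (S ⊓ Cfsg.Geo.omegaGL (Q : (ι → F) → F)).map (glEquiv ι F).toMonoidHom = T ⊓ E Q := by
  ext x
  constructor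
  · rintro ⟨g, ⟨hg1, hg2⟩, rfl⟩
    exact ⟨(h g).1 hg1, (mem_omegaGL_iff hG g).1 hg2⟩
  · rintro ⟨h1, h2⟩
    obtain ⟨g, rfl⟩ := (glEquiv ι F).surjective x
    exact ⟨g, ⟨(h g).2 h1, (mem_omegaGL_iff hG g).2 h2⟩, rfl⟩

/-- **Maximality of a stabiliser in `omegaGL Q` from the coordinate-free version.**  `S` is the stabiliser
as a group of matrices, `T` the same stabiliser in `V ≃ₗ[F] V`. -/
theorem isMaximalIn_omegaGL {Q : QuadraticForm F (ι → F)} (hG : Good Q)
    (S : Subgroup (Matrix.GeneralLinearGroup ι F)) (T : Subgroup ((ι → F) ≃ₗ[F] (ι → F)))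
    (h : ∀ g, g ∈ S ↔ glEquiv ι F g ∈ T) (hmax : Cfsg.Geo.IsMaximalIn (E Q) (T ⊓ E Q)) :
    Cfsg.Geo.IsMaximalIn (Cfsg.Geo.omegaGL (Q : (ι → F) → F))
      (S ⊓ Cfsg.Geo.omegaGL (Q : (ι → F) → F)) := by
  rw [← isMaximalIn_map_iff (glEquiv ι F), map_inf_omegaGL hG S T h, map_omegaGL_eq_E hG]
  exact hmax

/-- **Non-maximality of a stabiliser in `omegaGL Q` from the coordinate-free version.** -/
theorem exists_between_omegaGL {Q : QuadraticForm F (ι → F)} (hG : Good Q)
    (S : Subgroup (Matrix.GeneralLinearGroup ι F)) (T : Subgroup ((ι → F) ≃ₗ[F] (ι → F)))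
    (h : ∀ g, g ∈ S ↔ glEquiv ι F g ∈ T)
    (hex : ∃ L : Subgroup ((ι → F) ≃ₗ[F] (ι → F)), T ⊓ E Q < L ∧ L < E Q) :
    ∃ K : Subgroup (Matrix.GeneralLinearGroup ι F),
      S ⊓ Cfsg.Geo.omegaGL (Q : (ι → F) → F) < K ∧ K < Cfsg.Geo.omegaGL (Q : (ι → F) → F) := by
  rw [← exists_between_map_iff (glEquiv ι F), map_inf_omegaGL hG S T h, map_omegaGL_eq_E hG]
  exact hex

/-- **Ready to use, C1 case**: for the function `Q` of the statements (finite field, dimension ≥ 5) it is
enough to prove maximality of `stab W ⊓ E Q'` in `E Q'` for the `QuadraticForm` `Q'` underlying `Q`. -/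
theorem subspaceStabilizer_maximal [Finite F] {Q : (ι → F) → F}
    (hQ : Cfsg.Geo.IsNondegenerateQuadraticForm Q) (hd : 5 ≤ Fintype.card ι) (W : Submodule F (ι → F))
    (h : ∀ Q' : QuadraticForm F (ι → F), ⇑Q' = Q → Good Q' →
      Cfsg.Geo.IsMaximalIn (E Q') (stab W ⊓ E Q')) :
    Cfsg.Geo.IsMaximalIn (Cfsg.Geo.omegaGL Q) (Cfsg.Geo.subspaceStabilizer W ⊓ Cfsg.Geo.omegaGL Q) := by
  obtain ⟨Q', rfl, hnd⟩ := exists_quadraticForm hQ
  have hG := good_of_card hnd hd
  exact isMaximalIn_omegaGL hG _ (stab W) (fun _ => Iff.rfl) (h Q' rfl hG)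

/-- **Ready to use, C2 case.** -/
theorem decompositionStabilizer_maximal [Finite F] {Q : (ι → F) → F}
    (hQ : Cfsg.Geo.IsNondegenerateQuadraticForm Q) (hd : 5 ≤ Fintype.card ι) {t : ℕ}
    (D : Fin t → Submodule F (ι → F))
    (h : ∀ Q' : QuadraticForm F (ι → F), ⇑Q' = Q → Good Q' →
      Cfsg.Geo.IsMaximalIn (E Q') (stabFamily D ⊓ E Q')) :
    Cfsg.Geo.IsMaximalIn (Cfsg.Geo.omegaGL Q)
      (Cfsg.Geo.decompositionStabilizer D ⊓ Cfsg.Geo.omegaGL Q) := by
  obtain ⟨Q', rfl, hnd⟩ := exists_quadraticForm hQ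
  have hG := good_of_card hnd hd
  exact isMaximalIn_omegaGL hG _ (stabFamily D) (fun _ => Iff.rfl) (h Q' rfl hG)

/-- **Ready to use, non-maximality of a subspace stabiliser.** -/
theorem subspaceStabilizer_not_maximal [Finite F] {Q : (ι → F) → F}
    (hQ : Cfsg.Geo.IsNondegenerateQuadraticForm Q) (hd : 5 ≤ Fintype.card ι) (W : Submodule F (ι → F))
    (h : ∀ Q' : QuadraticForm F (ι → F), ⇑Q' = Q → Good Q' →
      ∃ L : Subgroup ((ι → F) ≃ₗ[F] (ι → F)), stab W ⊓ E Q' < L ∧ L < E Q') :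
    ∃ K : Subgroup (Matrix.GeneralLinearGroup ι F),
      Cfsg.Geo.subspaceStabilizer W ⊓ Cfsg.Geo.omegaGL Q < K ∧ K < Cfsg.Geo.omegaGL Q := by
  obtain ⟨Q', rfl, hnd⟩ := exists_quadraticForm hQ
  have hG := good_of_card hnd hd
  exact exists_between_omegaGL hG _ (stab W) (fun _ => Iff.rfl) (h Q' rfl hG)

/-- **Ready to use, non-maximality of a decomposition stabiliser.** -/
theorem decompositionStabilizer_not_maximal [Finite F] {Q : (ι → F) → F}
    (hQ : Cfsg.Geo.IsNondegenerateQuadraticForm Q) (hd : 5 ≤ Fintype.card ι) {t : ℕ}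
    (D : Fin t → Submodule F (ι → F))
    (h : ∀ Q' : QuadraticForm F (ι → F), ⇑Q' = Q → Good Q' →
      ∃ L : Subgroup ((ι → F) ≃ₗ[F] (ι → F)), stabFamily D ⊓ E Q' < L ∧ L < E Q') :
    ∃ K : Subgroup (Matrix.GeneralLinearGroup ι F),
      Cfsg.Geo.decompositionStabilizer D ⊓ Cfsg.Geo.omegaGL Q < K ∧ K < Cfsg.Geo.omegaGL Q := by
  obtain ⟨Q', rfl, hnd⟩ := exists_quadraticForm hQ
  have hG := good_of_card hnd hd
  exact exists_between_omegaGL hG _ (stabFamily D) (fun _ => Iff.rfl) (h Q' rfl hG)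

end MatrixStabilizers

section Odd

variable {F : Type*} [Field F]

/-- The standard odd-dimensional form of the statements S5673-S5684 as a nondegenerate `QuadraticForm`. -/
theorem oddForm_nondeg [Fintype F] (hodd : Odd (Fintype.card F)) (m : ℕ) :
    Nondeg (Cfsg.Agent.LieClassical.OrthForms.oddForm m F) := by
  refine Cfsg.Agent.LieClassical.OrthForms.nondeg_oddForm m F ?_
  intro h2
  have h : ringChar F = 2 := by
    have h1 : ((2 : ℕ) : F) = 0 := by exact_mod_cast h2
    have h3 : ringChar F ∣ 2 := (ringChar.spec F 2).1 h1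
    have h4 : (ringChar F).Prime := CharP.char_is_prime F (ringChar F)
    exact (Nat.prime_dvd_prime_iff_eq h4 Nat.prime_two).1 h3
  have h5 : Fintype.card F % 2 = 0 := FiniteField.even_card_of_char_two h
  rw [Nat.odd_iff] at hodd
  omega

/-- `quadFormOdd m F` satisfies the predicate of the general statements (odd `|F|`). -/
theorem isNondegenerateQuadraticForm_odd [Fintype F] (hodd : Odd (Fintype.card F)) (m : ℕ) :
    Cfsg.Geo.IsNondegenerateQuadraticForm (Cfsg.quadFormOdd m F) := by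
  rw [← Cfsg.Agent.LieClassical.OrthForms.coe_oddForm]
  exact isNondegenerateQuadraticForm (oddForm_nondeg hodd m)

end Odd

end Cfsg.Agent.H883.Bridge
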